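import Mathlib
import Cfsg.Agent.H198.FC.Defs
set_option linter.all false

/-!
# S5764, field extensions: types of elements of `End_K(V)` (helper184)

`φ : F →ₐ[K] End_K(V)` a field extension; `Ty φ σ X` : `X φ(a) = φ(σ a) X`.
* `Ty.indep` : elements of different types are independent (Dedekind);
* `exists_ty` : a unit normalizing `φ(F)` has a type;
* `exists_rho` : an (anti)automorphism preserving `φ(F)` induces an automorphism of `F`;
* `Kp f x` : `f` preserves `x⁻¹ φ(F) x`; `kp_of_mem` : from `f ∈ S`, `x f x⁻¹ ∈ S`;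
* `auto_fix`, `anti_no`, `anti_neg` : the consequences for `x = 1 + y`, `y` of type `τ`.
-/

set_option autoImplicit false
set_option linter.unusedSectionVars false

namespace Cfsg.Agent.H184.FC

open Module Cfsg.Agent.H198.FC

universe u v w

variable {K : Type u} [Field K] {V : Type v} [AddCommGroup V] [Module K V]

/-! ### determinants -/

theorem det_one_add [Finite K] {y : R K V} (hy : IsNilpotent y) : LinearMap.det (1 + y) = 1 := by
  rcases subsingleton_or_nontrivial V with h | h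
  · rw [Subsingleton.elim (1 + y) 1, map_one]
  obtain ⟨p, hp⟩ := CharP.exists K
  have hpp : Fact p.Prime := ⟨CharP.char_is_prime K p⟩
  have hR : CharP (R K V) p := charP_of_injective_algebraMap (algebraMap K (R K V)).injective p
  obtain ⟨n, hn⟩ := hy
  obtain ⟨k, hk⟩ : ∃ k, n ≤ p ^ k := ⟨n, (Nat.lt_pow_self hpp.out.one_lt).le⟩
  have h1 : (1 + y) ^ p ^ k = 1 := by
    rw [add_pow_char_pow_of_commute p k (Commute.one_left y), one_pow, pow_eq_zero_of_le hk hn, add_zero]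
  have h2 : LinearMap.det (1 + y) ^ p ^ k = 1 := by rw [← map_pow, h1, map_one]
  have h3 := (ExpChar.pow_prime_pow_mul_eq_one_iff p k 1 (LinearMap.det (1 + y))).1 (by rwa [mul_one])
  rwa [pow_one] at h3

/-- the unit `1 + y` -/
noncomputable def un {y : R K V} (hy : IsNilpotent y) : (R K V)ˣ := (hy.isUnit_one_add).unit

theorem coe_un {y : R K V} (hy : IsNilpotent y) : (un hy : R K V) = 1 + y := IsUnit.unit_spec _

variable {F : Type w} [Field F] [Algebra K F]

/-- `X` has type `σ` -/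
def Ty (φ : F →ₐ[K] R K V) (σ : F ≃ₐ[K] F) (X : R K V) : Prop := ∀ a, X * φ a = φ (σ a) * X

variable {φ : F →ₐ[K] R K V}

theorem Ty.mul {σ τ : F ≃ₐ[K] F} {X Y : R K V} (hX : Ty φ σ X) (hY : Ty φ τ Y) : Ty φ (σ * τ) (X * Y) := by
  intro a
  rw [mul_assoc, hY a, ← mul_assoc, hX, mul_assoc]
  rfl

theorem ty_one : Ty φ 1 (1 : R K V) := fun a => by rw [one_mul, mul_one]; rfl

theorem Ty.zero (σ : F ≃ₐ[K] F) : Ty φ σ (0 : R K V) := fun a => by rw [zero_mul, mul_zero]

theorem Ty.neg {σ : F ≃ₐ[K] F} {X : R K V} (h : Ty φ σ X) : Ty φ σ (-X) := fun a => by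
  rw [neg_mul, h a, mul_neg]

theorem Ty.add {σ : F ≃ₐ[K] F} {X Y : R K V} (h : Ty φ σ X) (h' : Ty φ σ Y) : Ty φ σ (X + Y) := fun a => by
  rw [add_mul, h a, h' a, mul_add]

/-- Dedekind -/
theorem Ty.indep {ι : Type*} [Fintype ι] {g : ι → (F ≃ₐ[K] F)} (hg : Function.Injective g) {z : ι → R K V}
    (hz : ∀ i, Ty φ (g i) (z i)) (h : ∑ i, z i = 0) (i : ι) : z i = 0 := by
  letI : Module F V := Module.compHom V (φ : F →+* R K V)
  have hsm : ∀ (a : F) (v : V), a • v = φ a v := fun _ _ => rfl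
  ext v
  rw [LinearMap.zero_apply]
  rw [← Module.forall_dual_apply_eq_zero_iff F]
  intro ℓ
  have hli := linearIndependent_monoidHom F F
  have hinj : Function.Injective (fun i => ((g i : F →ₐ[K] F) : F →* F)) := by
    intro i j hij
    apply hg
    ext a
    exact congrArg (fun f : F →* F => f a) hij
  have hli' := hli.comp _ hinj
  rw [Fintype.linearIndependent_iff] at hli'
  refine hli' (fun i => ℓ (z i v)) ?_ i
  funext a
  rw [Finset.sum_apply]
  have h1 : (∑ i, z i) (φ a v) = 0 := by rw [h, LinearMap.zero_apply]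
  rw [LinearMap.sum_apply] at h1
  have h2 : ∀ i, z i (φ a v) = g i a • z i v := fun i => by
    have := congrArg (fun X : R K V => X v) (hz i a)
    exact this
  simp only [h2] at h1
  have h3 := congrArg ℓ h1
  rw [map_sum, map_zero] at h3
  simp only [map_smul, smul_eq_mul] at h3
  simp only [Function.comp_apply, Pi.smul_apply, smul_eq_mul, Pi.zero_apply]
  rw [← h3]
  exact Finset.sum_congr rfl fun j _ => mul_comm _ _

/-! ### automorphisms of `F` -/

section

variable [Finite F]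

theorem comm_gal [Finite K] (σ : F ≃ₐ[K] F) (ρ : F ≃+* F) (a : F) : ρ (σ a) = σ (ρ a) := by
  obtain ⟨p, hp⟩ := CharP.exists K
  have hpp : Fact p.Prime := ⟨CharP.char_is_prime K p⟩
  obtain ⟨i, hi⟩ := FiniteField.exists_forall_apply_eq_pow K p F σ
  rw [hi, hi, map_pow]

theorem gal_comm [Finite K] (σ τ : F ≃ₐ[K] F) : σ * τ = τ * σ := by
  ext a
  exact comm_gal τ (σ : F ≃+* F) a

/-- an invertible element normalizing `φ(F)` has a type -/
theorem exists_ty {m : R K V} (hm : IsUnit m) (h : ∀ b, ∃ b', m * φ b = φ b' * m) : ∃ σ : F ≃ₐ[K] F, Ty φ σ m := by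
  rcases subsingleton_or_nontrivial (R K V) with h0 | h0
  · exact ⟨1, fun a => Subsingleton.elim _ _⟩
  have hφ : Function.Injective φ := (φ : F →+* R K V).injective
  choose s hs using h
  have hcan : ∀ {b c : F}, φ b * m = φ c * m → b = c := fun {b c} e => hφ (hm.mul_right_cancel e)
  let σ : F →ₐ[K] F :=
    { toFun := s
      map_one' := hcan (by rw [← hs, map_one, mul_one, one_mul])
      map_mul' := fun a b => hcan (by rw [← hs, map_mul, ← mul_assoc, hs, mul_assoc, hs, ← mul_assoc, ← map_mul])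
      map_zero' := hcan (by rw [← hs, map_zero, mul_zero, zero_mul])
      map_add' := fun a b => hcan (by rw [← hs, map_add, mul_add, hs, hs, map_add, add_mul])
      commutes' := fun c => hcan (by
        rw [← hs, AlgHom.commutes, Algebra.commutes]) }
  have hb : Function.Bijective σ := Finite.injective_iff_bijective.1 (σ : F →+* F).injective
  exact ⟨AlgEquiv.ofBijective σ hb, hs⟩

variable {f : Equiv.Perm (R K V)}

/-- multiplicative or antimultiplicative maps preserving `φ(F)` -/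
theorem exists_rho (hf0 : ∀ X Y, f (X + Y) = f X + f Y)
    (hf : (∀ X Y, f (X * Y) = f X * f Y) ∨ ∀ X Y, f (X * Y) = f Y * f X)
    (h : ∀ a, ∃ a', f (φ a) = φ a') : ∃ ρ : F ≃+* F, ∀ a, f (φ a) = φ (ρ a) := by
  rcases subsingleton_or_nontrivial (R K V) with h0 | h0
  · exact ⟨RingEquiv.refl F, fun a => Subsingleton.elim _ _⟩
  have hφ : Function.Injective φ := (φ : F →+* R K V).injective
  choose s hs using h
  have hmul : ∀ a b, s (a * b) = s a * s b := fun a b => hφ (by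
    rcases hf with hf | hf
    · rw [← hs, map_mul, hf, hs, hs, map_mul]
    · rw [← hs, mul_comm a b, map_mul, hf, hs, hs, map_mul])
  have hadd : ∀ a b, s (a + b) = s a + s b := fun a b => hφ (by rw [← hs, map_add, hf0, hs, hs, map_add])
  have hzero : s 0 = 0 := by
    have := hadd 0 0
    rw [add_zero] at this
    exact left_eq_add.1 this
  have hone : s 1 = 1 := by
    have h1 := hmul 1 1
    rw [mul_one] at h1
    have h2 : s 1 ≠ 0 := by
      intro h3
      have h4 : f 1 = 0 := by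
        have := hs 1
        rw [map_one, h3, map_zero] at this
        exact this
      have h5 : f 0 = 0 := by
        have := hf0 0 0
        rw [add_zero] at this
        exact left_eq_add.1 this
      exact one_ne_zero (f.injective (h4.trans h5.symm))
    exact (mul_right_cancel₀ h2 (by rw [one_mul]; exact h1)).symm
  let σ : F →+* F := { toFun := s, map_one' := hone, map_mul' := hmul, map_zero' := hzero, map_add' := hadd }
  have hb : Function.Bijective σ := Finite.injective_iff_bijective.1 σ.injective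
  exact ⟨RingEquiv.ofBijective σ hb, hs⟩

theorem f_one (hf : (∀ X Y, f (X * Y) = f X * f Y) ∨ ∀ X Y, f (X * Y) = f Y * f X) : f 1 = 1 := by
  obtain ⟨X, hX⟩ := f.surjective 1
  rcases hf with hf | hf
  · have h1 := hf 1 X
    rw [one_mul, hX, mul_one] at h1
    exact h1.symm
  · have h1 := hf 1 X
    rw [one_mul, hX, one_mul] at h1
    exact h1.symm

/-- `f` preserves `x⁻¹ φ(F) x` -/
def Kp (φ : F →ₐ[K] R K V) (f : Equiv.Perm (R K V)) (x : (R K V)ˣ) : Prop :=
  ∀ a, ∃ a', f ((x⁻¹ : (R K V)ˣ) * φ a * x) = (x⁻¹ : (R K V)ˣ) * φ a' * x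

theorem kp_of_mem {S : Subgroup (Equiv.Perm (R K V))} (hS : ∀ f ∈ S, ∀ a, ∃ a', f (φ a) = φ a') {x : (R K V)ˣ}
    (h : cj K V x * f * (cj K V x)⁻¹ ∈ S) : Kp φ f x := by
  intro a
  obtain ⟨a', ha'⟩ := hS _ h a
  refine ⟨a', ?_⟩
  have h1 : (cj K V x * f * (cj K V x)⁻¹) (φ a) = x * f ((x⁻¹ : (R K V)ˣ) * φ a * x) * (x⁻¹ : (R K V)ˣ) := by
    rw [← map_inv]
    change cj K V x (f (cj K V x⁻¹ (φ a))) = _
    rw [cj_apply, cj_apply, inv_inv]
  rw [h1] at ha'
  rw [← ha']
  simp [mul_assoc]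

/-- the factor `φ(b)` is irrelevant -/
theorem Kp.of_mul {b : F} {x y : (R K V)ˣ} (hy : (y : R K V) = φ b * x) (h : Kp φ f y) : Kp φ f x := by
  rcases subsingleton_or_nontrivial (R K V) with h0 | h0
  · exact fun a => ⟨a, Subsingleton.elim _ _⟩
  have hb : b ≠ 0 := by
    rintro rfl
    rw [map_zero, zero_mul] at hy
    exact y.ne_zero hy
  let B : (R K V)ˣ := Units.map (φ : F →* R K V) (Units.mk0 b hb)
  have hB : (B : R K V) = φ b := rfl
  have hyx : y = B * x := Units.ext hy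
  have h1 : ∀ a, ((y⁻¹ : (R K V)ˣ) : R K V) * φ a * y = (x⁻¹ : (R K V)ˣ) * φ a * x := by
    intro a
    have h2 : ((B⁻¹ : (R K V)ˣ) : R K V) * φ a * B = φ a := by
      rw [mul_assoc, hB, ← map_mul, mul_comm a b, map_mul, ← hB, Units.inv_mul_cancel_left]
    rw [hyx, mul_inv_rev, Units.val_mul, Units.val_mul]
    calc _ = ((x⁻¹ : (R K V)ˣ) : R K V) * (((B⁻¹ : (R K V)ˣ) : R K V) * φ a * B) * x := by simp only [mul_assoc]
      _ = _ := by rw [h2]
  intro a
  obtain ⟨a', ha'⟩ := h a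
  exact ⟨a', by rw [← h1, ← h1, ha']⟩

theorem kp_auto (hf : ∀ X Y, f (X * Y) = f X * f Y) {ρ : F ≃+* F} (hρ : ∀ a, f (φ a) = φ (ρ a)) {x : (R K V)ˣ}
    (h : Kp φ f x) : ∃ σ : F ≃ₐ[K] F, Ty φ σ (x * f ((x⁻¹ : (R K V)ˣ) : R K V)) := by
  have h1 := f_one (Or.inl hf)
  have h2 : f ((x⁻¹ : (R K V)ˣ) : R K V) * f x = 1 := by rw [← hf, Units.inv_mul, h1]
  have h2' : f x * f ((x⁻¹ : (R K V)ˣ) : R K V) = 1 := by rw [← hf, Units.mul_inv, h1]
  have hu : IsUnit (f ((x⁻¹ : (R K V)ˣ) : R K V)) := ⟨⟨_, _, h2, h2'⟩, rfl⟩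
  refine exists_ty (x.isUnit.mul hu) fun b => ?_
  obtain ⟨a', ha'⟩ := h (ρ.symm b)
  refine ⟨a', ?_⟩
  rw [hf, hf, hρ, RingEquiv.apply_symm_apply] at ha'
  calc (x : R K V) * f ((x⁻¹ : (R K V)ˣ) : R K V) * φ b
      = x * (f ((x⁻¹ : (R K V)ˣ) : R K V) * φ b * f x) * f ((x⁻¹ : (R K V)ˣ) : R K V) := by
        simp only [mul_assoc, h2', mul_one]
    _ = _ := by rw [ha']; simp [mul_assoc]

theorem kp_anti (hf : ∀ X Y, f (X * Y) = f Y * f X) {ρ : F ≃+* F} (hρ : ∀ a, f (φ a) = φ (ρ a)) {x : (R K V)ˣ}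
    (h : Kp φ f x) : ∃ σ : F ≃ₐ[K] F, Ty φ σ (x * f (x : R K V)) := by
  have h1 := f_one (Or.inr hf)
  have h2 : f ((x⁻¹ : (R K V)ˣ) : R K V) * f x = 1 := by rw [← hf, Units.mul_inv, h1]
  have h2' : f x * f ((x⁻¹ : (R K V)ˣ) : R K V) = 1 := by rw [← hf, Units.inv_mul, h1]
  have hu : IsUnit (f (x : R K V)) := ⟨⟨_, _, h2', h2⟩, rfl⟩
  refine exists_ty (x.isUnit.mul hu) fun b => ?_
  obtain ⟨a', ha'⟩ := h (ρ.symm b)
  refine ⟨a', ?_⟩
  rw [hf, hf, hρ, RingEquiv.apply_symm_apply] at ha'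
  calc (x : R K V) * f x * φ b
      = x * (f x * (φ b * f ((x⁻¹ : (R K V)ˣ) : R K V))) * f x := by
        simp only [mul_assoc, h2, mul_one]
    _ = _ := by rw [ha']; simp [mul_assoc]

/-- comparison of types -/
theorem four {α β γ δ : F ≃ₐ[K] F} {A B C D : R K V} (hA : Ty φ α A) (hB : Ty φ β B) (hC : Ty φ γ C) (hD : Ty φ δ D)
    (h : A + B = C + D) (g : F ≃ₐ[K] F) [DecidableEq (F ≃ₐ[K] F)] :
    (if g = α then A else 0) + (if g = β then B else 0) = (if g = γ then C else 0) + (if g = δ then D else 0) := by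
  letI : Fintype (F ≃ₐ[K] F) := Fintype.ofFinite _
  have hT : ∀ {ε : F ≃ₐ[K] F} {X : R K V}, Ty φ ε X → ∀ g, Ty φ g (if g = ε then X else 0) := by
    intro ε X hX g
    split_ifs with e
    · rw [e]; exact hX
    · exact Ty.zero g
  have h1 := Ty.indep (φ := φ) (g := fun g : F ≃ₐ[K] F => g) (fun _ _ e => e)
    (z := fun g => ((if g = α then A else 0) + (if g = β then B else 0)) +
      -((if g = γ then C else 0) + (if g = δ then D else 0)))
    (fun g => ((hT hA g).add (hT hB g)).add ((hT hC g).add (hT hD g)).neg) ?_ g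
  · rwa [add_neg_eq_zero] at h1
  · simp only [Finset.sum_add_distrib, Finset.sum_neg_distrib, Finset.sum_ite_eq', Finset.mem_univ, if_true]
    rw [h, add_neg_cancel]

/-- the type of `f(y)` -/
theorem ty_auto [Finite K] (hf : ∀ X Y, f (X * Y) = f X * f Y) {ρ : F ≃+* F} (hρ : ∀ a, f (φ a) = φ (ρ a))
    {τ : F ≃ₐ[K] F} {y : R K V} (hy : Ty φ τ y) : Ty φ τ (f y) := by
  intro a
  have h1 := congrArg f (hy (ρ.symm a))
  rw [hf, hf, hρ, hρ, RingEquiv.apply_symm_apply, comm_gal, RingEquiv.apply_symm_apply] at h1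
  exact h1

theorem ty_anti [Finite K] (hf : ∀ X Y, f (X * Y) = f Y * f X) {ρ : F ≃+* F} (hρ : ∀ a, f (φ a) = φ (ρ a))
    {τ : F ≃ₐ[K] F} {y : R K V} (hy : Ty φ τ y) : Ty φ τ⁻¹ (f y) := by
  intro a
  have h1 := congrArg f (hy (ρ.symm (τ⁻¹ a)))
  rw [hf, hf, hρ, hρ, RingEquiv.apply_symm_apply, comm_gal, RingEquiv.apply_symm_apply] at h1
  rw [h1, ← AlgEquiv.mul_apply, mul_inv_cancel, AlgEquiv.one_apply]

/-- ring automorphisms: `x = 1 + y`, `y` of type `τ ≠ 1` -/
theorem auto_cases [Finite K] [Nontrivial V] (hf0 : ∀ X Y, f (X + Y) = f X + f Y) (hf : ∀ X Y, f (X * Y) = f X * f Y)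
    {ρ : F ≃+* F} (hρ : ∀ a, f (φ a) = φ (ρ a)) {τ : F ≃ₐ[K] F} (hτ : τ ≠ 1) {y : R K V} (hy : Ty φ τ y)
    {x : (R K V)ˣ} (hx : (x : R K V) = 1 + y) (h : Kp φ f x) : f y = y ∨ (τ * τ = 1 ∧ y * f y = 1) := by
  classical
  obtain ⟨σ, hm⟩ := kp_auto hf hρ h
  set m := (x : R K V) * f ((x⁻¹ : (R K V)ˣ) : R K V) with hm_def
  have h1 := f_one (Or.inl hf)
  have h2 : m * f x = x := by rw [hm_def, mul_assoc, ← hf, Units.inv_mul, h1, mul_one]
  have hfx : f x = 1 + f y := by rw [hx, hf0, h1]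
  have h3 : m + m * f y = 1 + y := by
    rw [hfx, mul_add, mul_one, hx] at h2
    exact h2
  have hyt := ty_auto hf hρ hy
  have hf4 := four hm (hm.mul hyt) ty_one hy h3
  have hm0 : m ≠ 0 := by
    intro e
    rw [e, zero_mul] at h2
    exact x.ne_zero h2.symm
  by_cases hσ : σ = 1
  · left
    subst hσ
    have e1 := hf4 1
    rw [if_pos rfl, one_mul, if_neg (Ne.symm hτ), if_pos rfl, if_neg (Ne.symm hτ), add_zero, add_zero] at e1
    have e2 := hf4 τ
    rw [if_neg hτ, one_mul, if_pos rfl, if_neg hτ, if_pos rfl, zero_add, zero_add, e1, one_mul] at e2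
    exact e2
  · right
    have hστ : σ * τ ≠ σ := fun e => hτ (mul_eq_left.1 e)
    have e1 := hf4 σ
    rw [if_pos rfl, if_neg (Ne.symm hστ), if_neg hσ, add_zero, zero_add] at e1
    have hστ' : σ = τ := by
      by_contra e
      rw [if_neg e] at e1
      exact hm0 e1
    subst hστ'
    rw [if_pos rfl] at e1
    have e2 := hf4 1
    rw [if_neg (Ne.symm hτ), if_pos rfl, if_neg (Ne.symm hτ), zero_add, add_zero, e1] at e2
    by_cases e3 : σ * σ = 1
    · rw [if_pos e3.symm] at e2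
      exact ⟨e3, e2⟩
    · rw [if_neg (Ne.symm e3)] at e2
      exact absurd e2 zero_ne_one

/-- anti-automorphisms: `x = 1 + y`, `y ≠ 0` of type `τ`, `τ² ≠ 1` -/
theorem anti_no [Finite K] [Nontrivial V] (hf0 : ∀ X Y, f (X + Y) = f X + f Y) (hf : ∀ X Y, f (X * Y) = f Y * f X)
    {ρ : F ≃+* F} (hρ : ∀ a, f (φ a) = φ (ρ a)) {τ : F ≃ₐ[K] F} (hτ : τ * τ ≠ 1) {y : R K V} (hy : Ty φ τ y)
    (hy0 : y ≠ 0) {x : (R K V)ˣ} (hx : (x : R K V) = 1 + y) (h : Kp φ f x) : False := by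
  classical
  obtain ⟨σ, hm⟩ := kp_anti hf hρ h
  set m := (x : R K V) * f (x : R K V) with hm_def
  have h1 := f_one (Or.inr hf)
  have hfx : f x = 1 + f y := by rw [hx, hf0, h1]
  have hyt := ty_anti hf hρ hy
  have hyy : Ty φ 1 (y * f y) := by
    have := hy.mul hyt
    rwa [mul_inv_cancel] at this
  have h3 : m + -(1 + y * f y) = y + f y := by
    rw [hm_def, hfx, hx]
    noncomm_ring
  have hf4 := four hm (ty_one.add hyy).neg hy hyt h3
  have hτ1 : τ ≠ 1 := by
    rintro rfl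
    exact hτ (one_mul _)
  have hτi : τ ≠ τ⁻¹ := fun e => hτ (by nth_rewrite 1 [e]; exact inv_mul_cancel _)
  have hf0' : f 0 = 0 := by
    have := hf0 0 0
    rw [add_zero] at this
    exact left_eq_add.1 this
  have hfy0 : f y ≠ 0 := fun e => hy0 (f.injective (e.trans hf0'.symm))
  have e1 := hf4 τ
  rw [if_neg hτ1, if_pos rfl, if_neg hτi, add_zero, add_zero] at e1
  have e2 := hf4 τ⁻¹
  rw [if_neg (fun e => hτ1 (inv_eq_one.1 e)), if_neg (Ne.symm hτi), if_pos rfl, add_zero, zero_add] at e2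
  have hσ : τ = σ := by
    by_contra e
    rw [if_neg e] at e1
    exact hy0 e1.symm
  rw [if_neg (fun e => hτi (hσ.trans e.symm))] at e2
  exact hfy0 e2.symm

/-- anti-automorphisms: `x = 1 + y`, `y` of type `τ`, `τ² = 1`, `y` not invertible -/
theorem anti_neg [Finite K] [Module.Finite K V] (hf0 : ∀ X Y, f (X + Y) = f X + f Y)
    (hf : ∀ X Y, f (X * Y) = f Y * f X)
    {ρ : F ≃+* F} (hρ : ∀ a, f (φ a) = φ (ρ a)) {τ : F ≃ₐ[K] F} (hτ1 : τ ≠ 1) (hτ : τ * τ = 1) {y : R K V}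
    (hy : Ty φ τ y)
    (hy0 : ¬ IsUnit y) {x : (R K V)ˣ} (hx : (x : R K V) = 1 + y) (h : Kp φ f x) : f y = -y := by
  classical
  obtain ⟨σ, hm⟩ := kp_anti hf hρ h
  set m := (x : R K V) * f (x : R K V) with hm_def
  have h1 := f_one (Or.inr hf)
  have hfx : f x = 1 + f y := by rw [hx, hf0, h1]
  have hτi : τ⁻¹ = τ := inv_eq_of_mul_eq_one_left hτ
  have hyt := ty_anti hf hρ hy
  have hyy : Ty φ 1 (y * f y) := by
    have := hy.mul hyt
    rwa [mul_inv_cancel] at this
  rw [hτi] at hyt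
  have h3 : m + -(1 + y * f y) = y + f y := by
    rw [hm_def, hfx, hx]
    noncomm_ring
  have hf4 := four hm (ty_one.add hyy).neg hy hyt h3
  have e1 := hf4 τ
  rw [if_neg hτ1, if_pos rfl, if_pos rfl, add_zero] at e1
  have e2 := hf4 1
  rw [if_pos rfl, if_neg (Ne.symm hτ1), if_neg (Ne.symm hτ1), add_zero] at e2
  have hσ : τ ≠ σ := by
    intro e
    rw [if_neg (fun e' => hτ1 (e.trans e'.symm)), zero_add, neg_eq_zero] at e2
    apply hy0
    have e3 : y * -f y = 1 := by rw [mul_neg, eq_comm, ← sub_eq_zero, sub_neg_eq_add, e2]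
    exact IsUnit.of_mul_eq_one _ e3
  rw [if_neg hσ] at e1
  exact (neg_eq_of_add_eq_zero_right e1.symm).symm

end

end Cfsg.Agent.H184.FC
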